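import Cfsg.Agent.GroupBasics.Conjugates
import Mathlib.GroupTheory.IndexNormal
import Mathlib.GroupTheory.Abelianization.Defs
import Mathlib.Data.Nat.Choose.Dvd
import Mathlib.Algebra.BigOperators.Field
import Mathlib.Algebra.Order.BigOperators.Group.Finset

/-!
# The number of automorphism orbits of a non-abelian finite group

`card_orbits_mul_le`: for the least prime `p` of `|G|`, `G` nonabelian, the group `Aut G` has at
most `|G|/p` orbits on `G`.
-/

set_option autoImplicit false

namespace CfsgLib.AutOrbits

open Subgroup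

open scoped commutatorElement

variable {G : Type*} [Group G] [Finite G] {p : ℕ}

/-- A weighted count of orbits. -/
theorem card_orbits_mul_le_of_weights {A X : Type*} [Group A] [MulAction A X] [Finite X]
    (p s : ℕ) (Z B : Set X) (hps : p < s) (hp : 0 < p) (hdisj : Disjoint Z B)
    (hB : ∀ g ∈ B, s ≤ Nat.card (MulAction.orbit A g))
    (hO : ∀ g ∉ Z, p ≤ Nat.card (MulAction.orbit A g))
    (hcount : Nat.card Z * (p - 1) * s ≤ Nat.card B * (s - p)) :
    Nat.card (MulAction.orbitRel.Quotient A X) * p ≤ Nat.card X := by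
  classical
  have : Fintype X := Fintype.ofFinite X
  have : Fintype (MulAction.orbitRel.Quotient A X) := Fintype.ofFinite _
  have hs : (0 : ℚ) < s := by exact_mod_cast hp.trans hps
  have hp' : (0 : ℚ) < p := by exact_mod_cast hp
  have h1 : (Nat.card (MulAction.orbitRel.Quotient A X) : ℚ) =
      ∑ g : X, (1 : ℚ) / Nat.card (MulAction.orbit A g) := by
    rw [← Finset.sum_fiberwise Finset.univ (Quotient.mk (MulAction.orbitRel A X))
      (fun g => (1 : ℚ) / Nat.card (MulAction.orbit A g))]
    have h2 : ∀ q : MulAction.orbitRel.Quotient A X,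
        (∑ g ∈ Finset.univ.filter (fun g => Quotient.mk (MulAction.orbitRel A X) g = q),
          (1 : ℚ) / Nat.card (MulAction.orbit A g)) = 1 := by
      intro q
      induction q using Quotient.inductionOn with
      | h g =>
        have hset : ∀ x, Quotient.mk (MulAction.orbitRel A X) x = Quotient.mk (MulAction.orbitRel A X) g ↔
            x ∈ MulAction.orbit A g := fun x => Quotient.eq.trans MulAction.orbitRel_apply
        rw [Finset.sum_congr rfl (fun x hx => by
          rw [MulAction.orbit_eq_iff.2 ((hset x).1 (Finset.mem_filter.1 hx).2)])]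
        rw [Finset.sum_const, nsmul_eq_mul]
        have hc : (Finset.univ.filter (fun x => Quotient.mk (MulAction.orbitRel A X) x =
            Quotient.mk (MulAction.orbitRel A X) g)).card = Nat.card (MulAction.orbit A g) := by
          rw [Nat.card_eq_card_toFinset]
          congr 1
          ext x
          rw [Set.mem_toFinset, Finset.mem_filter]
          exact ⟨fun h => (hset x).1 h.2, fun h => ⟨Finset.mem_univ _, (hset x).2 h⟩⟩
        rw [hc]
        have : 0 < Nat.card (MulAction.orbit A g) :=
          Nat.card_pos_iff.2 ⟨⟨⟨g, MulAction.mem_orbit_self g⟩⟩, inferInstance⟩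
        field_simp
    rw [Finset.sum_congr rfl (fun q _ => h2 q), Finset.sum_const, nsmul_eq_mul, mul_one,
      Nat.card_eq_fintype_card, Finset.card_univ]
  have h3 : ∀ g : X, (p : ℚ) / Nat.card (MulAction.orbit A g) ≤
      1 + (if g ∈ Z then (p : ℚ) - 1 else 0) - (if g ∈ B then 1 - (p : ℚ) / s else 0) := by
    intro g
    have hpos : (1 : ℚ) ≤ Nat.card (MulAction.orbit A g) := by
      have : 0 < Nat.card (MulAction.orbit A g) :=
        Nat.card_pos_iff.2 ⟨⟨⟨g, MulAction.mem_orbit_self g⟩⟩, inferInstance⟩
      exact_mod_cast this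
    by_cases hZ : g ∈ Z
    · rw [if_pos hZ, if_neg (hdisj.notMem_of_mem_left hZ)]
      calc (p : ℚ) / Nat.card (MulAction.orbit A g) ≤ p / 1 :=
            div_le_div_of_nonneg_left hp'.le one_pos hpos
        _ = _ := by ring
    · rw [if_neg hZ]
      by_cases hg : g ∈ B
      · rw [if_pos hg]
        calc (p : ℚ) / Nat.card (MulAction.orbit A g) ≤ p / s :=
              div_le_div_of_nonneg_left hp'.le hs (by exact_mod_cast hB g hg)
          _ = _ := by ring
      · rw [if_neg hg]
        calc (p : ℚ) / Nat.card (MulAction.orbit A g) ≤ p / p :=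
              div_le_div_of_nonneg_left hp'.le hp' (by exact_mod_cast hO g hZ)
          _ = _ := by rw [div_self hp'.ne']; ring
  have h4 : ∀ (T : Set X) (c : ℚ),
      (∑ g : X, if g ∈ T then c else 0) = Nat.card T * c := by
    intro T c
    rw [← Finset.sum_filter, Finset.sum_const, nsmul_eq_mul, Nat.card_eq_card_toFinset]
    congr 2
    congr 1
    ext x
    simp
  have h5 : ((Nat.card (MulAction.orbitRel.Quotient A X) * p : ℕ) : ℚ) ≤ Nat.card X := by
    rw [Nat.cast_mul, h1, Finset.sum_mul]
    calc ∑ g : X, (1 : ℚ) / Nat.card (MulAction.orbit A g) * p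
        = ∑ g : X, (p : ℚ) / Nat.card (MulAction.orbit A g) :=
          Finset.sum_congr rfl fun g _ => by ring
      _ ≤ _ := Finset.sum_le_sum fun g _ => h3 g
      _ = Nat.card X + Nat.card Z * ((p : ℚ) - 1) - Nat.card B * (1 - (p : ℚ) / s) := by
          rw [Finset.sum_sub_distrib, Finset.sum_add_distrib, h4, h4, Finset.sum_const,
            nsmul_eq_mul, mul_one, Finset.card_univ, ← Nat.card_eq_fintype_card (α := X)]
      _ ≤ Nat.card X := by
          have h6 : ((Nat.card Z * (p - 1) * s : ℕ) : ℚ) ≤ ((Nat.card B * (s - p) : ℕ) : ℚ) := by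
            exact_mod_cast hcount
          push_cast [Nat.cast_sub hp, Nat.cast_sub hps.le] at h6
          have h7 : (Nat.card Z : ℚ) * ((p : ℚ) - 1) ≤ Nat.card B * (1 - (p : ℚ) / s) := by
            rw [one_sub_div hs.ne', ← mul_div_assoc, le_div_iff₀ hs]
            exact_mod_cast h6
          linarith
  exact_mod_cast h5

/-- A conjugacy class lies in the orbit of the automorphism group. -/
theorem index_centralizer_le_orbit (g : G) :
    (centralizer ({g} : Set G)).index ≤ Nat.card (MulAction.orbit (MulAut G) g) := by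
  rw [← CfsgLib.GroupBasics.card_carrier_eq_index_centralizer, Nat.card_coe_set_eq]
  refine Set.ncard_le_ncard ?_ (Set.toFinite _)
  intro y hy
  obtain ⟨c, hc⟩ := isConj_iff.1 (ConjClasses.mk_eq_mk_iff_isConj.1
    (ConjClasses.mem_carrier_iff_mk_eq.1 hy).symm)
  exact ⟨MulAut.conj c, hc⟩

theorem centralizer_eq_top_iff (g : G) :
    centralizer ({g} : Set G) = ⊤ ↔ g ∈ center G := by
  constructor
  · intro h
    exact mem_center_iff.2 fun x => mem_centralizer_singleton_iff.1 (h ▸ mem_top x)
  · intro h
    exact eq_top_iff.2 fun x _ => mem_centralizer_singleton_iff.2 (mem_center_iff.1 h x)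

/-- The index of a proper centralizer is at least the least prime. -/
theorem minFac_le_index {H : Subgroup G} (hH : H ≠ ⊤) (hp : p = (Nat.card G).minFac) :
    p ≤ H.index :=
  hp ▸ Nat.minFac_le_of_dvd (lt_of_le_of_ne (Nat.one_le_iff_ne_zero.2 H.index_ne_zero_of_finite)
    fun h => hH (index_eq_one.1 h.symm)) H.index_dvd_card

theorem prime_minFac (hnt : Nat.card G ≠ 1) (hp : p = (Nat.card G).minFac) : p.Prime :=
  hp ▸ Nat.minFac_prime hnt

/-- If the elements with classes of size at most `p` do not generate, classes alone suffice. -/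
theorem card_orbits_mul_le_of_big (hp : p = (Nat.card G).minFac) (hp' : p.Prime)
    (hT : closure {g : G | (centralizer ({g} : Set G)).index ≤ p} ≠ ⊤) :
    Nat.card (MulAction.orbitRel.Quotient (MulAut G) G) * p ≤ Nat.card G := by
  classical
  have : Fintype G := Fintype.ofFinite G
  set T := closure {g : G | (centralizer ({g} : Set G)).index ≤ p} with hTdef
  obtain ⟨g₀, hg₀⟩ : ∃ g, g ∉ T := by
    by_contra h
    push Not at h
    exact hT (eq_top_iff.2 fun g _ => h g)
  obtain ⟨g, hg, hmin⟩ := (Finset.univ.filter (fun g => g ∉ T)).exists_min_image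
    (fun g => (centralizer ({g} : Set G)).index) ⟨g₀, by simpa using hg₀⟩
  rw [Finset.mem_filter] at hg
  set s := (centralizer ({g} : Set G)).index with hs
  have hps : p < s := not_le.1 fun h => hg.2 (subset_closure h)
  have hgZ : g ∉ center G := fun h => by
    rw [hs, (centralizer_eq_top_iff g).2 h, index_top] at hps
    exact absurd hp'.one_lt (not_lt.2 hps.le)
  -- `|G| ≥ p s |Z|`
  have hC : Nat.card (center G) * p * s ≤ Nat.card G := by
    rw [← card_mul_index (centralizer ({g} : Set G))]
    refine Nat.mul_le_mul_right _ ?_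
    have hlt : center G < centralizer ({g} : Set G) :=
      lt_of_le_of_ne (center_le_centralizer _)
        fun h => hgZ (h ▸ mem_centralizer_singleton_iff.2 rfl)
    have h1 : p ≤ (center G).relIndex (centralizer ({g} : Set G)) := by
      refine hp ▸ Nat.minFac_le_of_dvd ?_
        ((index_dvd_card ((center G).subgroupOf (centralizer ({g} : Set G)))).trans
          (card_subgroup_dvd_card _))
      have h0 : (center G).relIndex (centralizer ({g} : Set G)) ≠ 0 :=
        index_ne_zero_of_finite
      have h1 : (center G).relIndex (centralizer ({g} : Set G)) ≠ 1 := fun h =>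
        absurd (relIndex_eq_one.1 h) hlt.not_ge
      omega
    have h2 := (center G).card_mul_index
    calc Nat.card (center G) * p ≤ Nat.card (center G) *
          (center G).relIndex (centralizer ({g} : Set G)) := Nat.mul_le_mul_left _ h1
      _ = Nat.card (centralizer ({g} : Set G)) := by
          rw [← Nat.card_congr (subgroupOfEquivOfLe hlt.le).toEquiv]
          exact card_mul_index _
  refine card_orbits_mul_le_of_weights p s (center G : Set G) {g | g ∉ T} hps hp'.pos ?_
    (fun x hx => (hmin x (by simpa using hx)).trans (index_centralizer_le_orbit x))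
    (fun x hx => (minFac_le_index (fun h => hx ((centralizer_eq_top_iff x).1 h)) hp).trans
      (index_centralizer_le_orbit x)) ?_
  · rw [Set.disjoint_left]
    intro x hx hx'
    refine hx' (subset_closure ?_)
    show (centralizer ({x} : Set G)).index ≤ p
    rw [(centralizer_eq_top_iff x).2 hx, index_top]
    exact hp'.one_lt.le
  · have hTp : Nat.card T * p ≤ Nat.card G :=
      (Nat.mul_le_mul_left _ (minFac_le_index hT hp)).trans_eq T.card_mul_index
    have hB : Nat.card {g : G | g ∉ T} + Nat.card T = Nat.card G := by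
      rw [Nat.card_coe_set_eq, show {g : G | g ∉ T} = ((T : Set G))ᶜ from rfl,
        ← Set.ncard_add_ncard_compl (T : Set G), add_comm, Nat.card_coe_set_eq (T : Set G) |>.symm]
      rfl
    change Nat.card (center G) * (p - 1) * s ≤ _
    obtain ⟨q, hq⟩ : ∃ q, p = q + 1 := ⟨p - 1, by have := hp'.pos; omega⟩
    have h8 : Nat.card G * q ≤ Nat.card {g : G | g ∉ T} * p := by
      subst hq
      nlinarith
    have h9 : Nat.card (center G) * (p - 1) * s ≤ Nat.card {g : G | g ∉ T} := by
      apply Nat.le_of_mul_le_mul_right ?_ hp'.pos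
      rw [show p - 1 = q by omega]
      calc Nat.card (center G) * q * s * p = Nat.card (center G) * p * s * q := by ring
        _ ≤ Nat.card G * q := Nat.mul_le_mul_right _ hC
        _ ≤ _ := h8
    exact h9.trans (Nat.le_mul_of_pos_right _ (by omega))

/-- Commutation with `g`, as a homomorphism, when commutators are central. -/
def ad (hcl : commutator G ≤ center G) (g : G) : G →* G where
  toFun x := ⁅g, x⁆
  map_one' := commutatorElement_one_right g
  map_mul' x y := by
    have h : ∀ z, z * ⁅g, y⁆ = ⁅g, y⁆ * z :=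
      mem_center_iff.1 (hcl (commutator_mem_commutator (mem_top g) (mem_top y)))
    show ⁅g, x * y⁆ = ⁅g, x⁆ * ⁅g, y⁆
    calc ⁅g, x * y⁆ = ⁅g, x⁆ * (x * ⁅g, y⁆ * x⁻¹) := by
          simp only [commutatorElement_def]; group
      _ = ⁅g, x⁆ * ⁅g, y⁆ := by rw [h x]; group

omit [Finite G] in
theorem ad_ker (hcl : commutator G ≤ center G) (g : G) :
    (ad hcl g).ker = centralizer ({g} : Set G) := by
  ext x
  rw [MonoidHom.mem_ker, mem_centralizer_singleton_iff]
  exact commutatorElement_eq_one_iff_mul_comm.trans eq_comm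

omit [Finite G] in
theorem card_range_ad (hcl : commutator G ≤ center G) (g : G) :
    Nat.card (ad hcl g).range = (centralizer ({g} : Set G)).index := by
  rw [← ad_ker hcl g, index_ker]

omit [Finite G] in
theorem comm_mul_left (hcl : commutator G ≤ center G) (a b x : G) :
    ⁅a * b, x⁆ = ⁅a, x⁆ * ⁅b, x⁆ := by
  rw [← commutatorElement_inv x (a * b), ← commutatorElement_inv x a, ← commutatorElement_inv x b,
    ← mul_inv_rev, show ⁅x, a * b⁆ = ⁅x, b⁆ * ⁅x, a⁆ from ?_]
  rw [show ⁅x, a * b⁆ = ⁅x, a⁆ * ⁅x, b⁆ from (ad hcl x).map_mul a b]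
  exact (mem_center_iff.1 (hcl (commutator_mem_commutator (mem_top x) (mem_top a))) _).symm

/-- Two elements with distinct prime ranges and distinct centralizers multiply to a big one. -/
theorem sq_le_index (hcl : commutator G ≤ center G) (hp' : p.Prime) {a b : G}
    (ha : Nat.card (ad hcl a).range = p) (hb : Nat.card (ad hcl b).range = p)
    (hne : (ad hcl a).range ≠ (ad hcl b).range)
    {u : G} (hau : (ad hcl a).range ≤ (ad hcl u).range) (hbu : (ad hcl b).range ≤ (ad hcl u).range) :
    p ^ 2 ≤ (centralizer ({u} : Set G)).index := by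
  rw [← card_range_ad hcl u]
  have hdisj : (ad hcl a).range ⊓ (ad hcl b).range = ⊥ := by
    by_contra h
    have hlt : 1 < Nat.card ((ad hcl a).range ⊓ (ad hcl b).range : Subgroup G) :=
      (one_lt_card_iff_ne_bot _).2 h
    have h1 := (hp'.eq_one_or_self_of_dvd _ (ha ▸ card_dvd_of_le inf_le_left)).resolve_left hlt.ne'
    exact hne ((eq_of_le_of_card_ge inf_le_left (by rw [h1, ha])).symm.trans
      (eq_of_le_of_card_ge inf_le_right (by rw [h1, hb])))
  let f : (ad hcl a).range × (ad hcl b).range → (ad hcl u).range :=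
    fun q => ⟨q.1 * q.2, mul_mem (hau q.1.2) (hbu q.2.2)⟩
  have hf : Function.Injective f := by
    intro q q' h
    exact mul_injective_of_disjoint (disjoint_iff.2 hdisj) (congrArg Subtype.val h)
  have := Nat.card_le_card_of_injective f hf
  rwa [Nat.card_prod, ha, hb, ← pow_two] at this

/-- An element of a subgroup of prime order generates it. -/
theorem le_of_mem_of_ne_one (hp' : p.Prime) {P Q : Subgroup G} (hP : Nat.card P = p) {x : G}
    (hx : x ∈ P) (hx1 : x ≠ 1) (hxQ : x ∈ Q) : P ≤ Q := by
  have h1 : zpowers x = P := by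
    refine eq_of_le_of_card_ge (zpowers_le.2 hx) ?_
    rw [hP, Nat.card_zpowers]
    have h2 : orderOf x ∣ p := hP ▸ Subgroup.orderOf_dvd_natCard P hx
    exact ((hp'.eq_one_or_self_of_dvd _ h2).resolve_left
      (fun h => hx1 (orderOf_eq_one_iff.1 h))).ge
  exact h1 ▸ zpowers_le.2 hxQ

/-- The product of two elements with distinct ranges and centralizers has a big class. -/
theorem sq_le_index_mul (hcl : commutator G ≤ center G) (hp' : p.Prime) {a b : G}
    (ha : Nat.card (ad hcl a).range = p) (hb : Nat.card (ad hcl b).range = p)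
    (hne : (ad hcl a).range ≠ (ad hcl b).range)
    {x : G} (hxb : ⁅b, x⁆ = 1) (hxa : ⁅a, x⁆ ≠ 1) :
    p ^ 2 ≤ (centralizer ({a * b} : Set G)).index := by
  have h1 : (ad hcl a).range ≤ (ad hcl (a * b)).range :=
    le_of_mem_of_ne_one hp' ha ⟨x, rfl⟩ hxa ⟨x, by
      show ⁅a * b, x⁆ = ⁅a, x⁆
      rw [comm_mul_left hcl, hxb, mul_one]⟩
  refine sq_le_index hcl hp' ha hb hne h1 ?_
  rintro _ ⟨y, rfl⟩
  have h2 : ⁅a * b, y⁆ ∈ (ad hcl (a * b)).range := ⟨y, rfl⟩
  rw [comm_mul_left hcl] at h2
  have h3 : ⁅a, y⁆ ∈ (ad hcl (a * b)).range := h1 ⟨y, rfl⟩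
  have h4 := mul_mem (inv_mem h3) h2
  rwa [inv_mul_cancel_left] at h4

/-- If the cosets of `p` elements with classes of size at least `p²` are distinct, we are done. -/
theorem card_orbits_mul_le_of_cosets (hp : p = (Nat.card G).minFac) (hp' : p.Prime)
    (f : Fin p → G) (hinj : ∀ i j, (f i)⁻¹ * f j ∈ center G → i = j)
    (hbig : ∀ i, p ^ 2 ≤ (centralizer ({f i} : Set G)).index) :
    Nat.card (MulAction.orbitRel.Quotient (MulAut G) G) * p ≤ Nat.card G := by
  set B := {g : G | p ^ 2 ≤ (centralizer ({g} : Set G)).index}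
  refine card_orbits_mul_le_of_weights p (p ^ 2) (center G : Set G) B
    (by have := hp'.two_le; nlinarith) hp'.pos ?_
    (fun x hx => hx.trans (index_centralizer_le_orbit x))
    (fun x hx => (minFac_le_index (fun h => hx ((centralizer_eq_top_iff x).1 h)) hp).trans
      (index_centralizer_le_orbit x)) ?_
  · rw [Set.disjoint_left]
    intro x hx hx'
    have h : p ^ 2 ≤ (centralizer ({x} : Set G)).index := hx'
    rw [(centralizer_eq_top_iff x).2 hx, index_top] at h
    have := hp'.two_le
    nlinarith
  · have hinjg : Function.Injective (fun q : Fin p × center G =>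
        (⟨f q.1 * q.2, by
          show p ^ 2 ≤ (centralizer ({f q.1 * q.2} : Set G)).index
          have hc : centralizer ({f q.1 * q.2} : Set G) = centralizer ({f q.1} : Set G) := by
            ext y
            rw [mem_centralizer_singleton_iff, mem_centralizer_singleton_iff]
            have hz := mem_center_iff.1 q.2.2
            constructor
            · intro h
              apply mul_right_cancel (b := (q.2 : G))
              rw [mul_assoc, h, mul_assoc, mul_assoc, hz y]
            · intro h
              rw [← mul_assoc, h, mul_assoc, hz y, ← mul_assoc]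
          rw [hc]
          exact hbig q.1⟩ : B)) := by
      rintro ⟨i, z⟩ ⟨j, z'⟩ h
      have h' : f i * z = f j * z' := congrArg Subtype.val h
      have hm : (f i)⁻¹ * f j ∈ center G := by
        have : (f i)⁻¹ * f j = z * (z' : G)⁻¹ := by
          rw [show f j = f i * z * (z' : G)⁻¹ by rw [h']; group]
          group
        rw [this]
        exact mul_mem z.2 (inv_mem z'.2)
      obtain rfl := hinj i j hm
      simp only [mul_right_inj, SetLike.coe_eq_coe] at h'
      rw [h']
    have h1 := Nat.card_le_card_of_injective _ hinjg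
    rw [Nat.card_prod, Nat.card_fin] at h1
    change Nat.card (center G) * (p - 1) * p ^ 2 ≤ _
    rw [show p ^ 2 - p = p * (p - 1) by rw [pow_two, Nat.mul_sub_one],
      show Nat.card (center G) * (p - 1) * p ^ 2 = p * Nat.card (center G) * (p * (p - 1)) by ring]
    exact Nat.mul_le_mul_right _ h1

omit [Finite G] in
theorem comm_pow_left (hcl : commutator G ≤ center G) (a x : G) (i : ℕ) :
    ⁅a ^ i, x⁆ = ⁅a, x⁆ ^ i := by
  induction i with
  | zero => simp
  | succ i ih => rw [pow_succ, comm_mul_left hcl, ih, pow_succ]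

/-- Class two with commutator subgroup not of order `p`. -/
theorem card_orbits_mul_le_of_two_ranges (hp : p = (Nat.card G).minFac) (hp' : p.Prime)
    (hcl : commutator G ≤ center G) {S : Set G} (hgen : closure S = ⊤)
    (hS : ∀ g ∈ S, Nat.card (ad hcl g).range = p)
    (hP : ¬ ∃ P : Subgroup G, Nat.card P = p ∧ ∀ g ∈ S, (ad hcl g).range = P)
    (hne : S.Nonempty) :
    Nat.card (MulAction.orbitRel.Quotient (MulAut G) G) * p ≤ Nat.card G := by
  set C := fun g : G => centralizer ({g} : Set G) with hC
  have hker : ∀ g x : G, x ∈ C g ↔ ⁅g, x⁆ = 1 := fun g x => by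
    show x ∈ centralizer ({g} : Set G) ↔ _
    rw [← ad_ker hcl g, MonoidHom.mem_ker]; rfl
  -- two generators with distinct ranges and distinct centralizers
  obtain ⟨a, haS, b, hbS, hPQ, hCab⟩ : ∃ a ∈ S, ∃ b ∈ S,
      (ad hcl a).range ≠ (ad hcl b).range ∧ C a ≠ C b := by
    obtain ⟨a, haS⟩ := hne
    obtain ⟨b, hbS, hPQ⟩ : ∃ b ∈ S, (ad hcl b).range ≠ (ad hcl a).range := by
      by_contra h
      push Not at h
      exact hP ⟨_, hS a haS, h⟩
    by_cases hCab : C a = C b
    · obtain ⟨c, hcS, hCc⟩ : ∃ c ∈ S, C c ≠ C a := by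
        by_contra h
        push Not at h
        have htop : C a = ⊤ := by
          rw [eq_top_iff, ← hgen, closure_le]
          intro c hc
          rw [SetLike.mem_coe, ← h c hc]
          exact mem_centralizer_singleton_iff.2 rfl
        have h1 := hS a haS
        rw [card_range_ad, show centralizer ({a} : Set G) = ⊤ from htop, index_top] at h1
        exact hp'.ne_one h1.symm
      by_cases hR : (ad hcl c).range = (ad hcl a).range
      · exact ⟨c, hcS, b, hbS, hR ▸ hPQ.symm, hCab ▸ hCc⟩
      · exact ⟨c, hcS, a, haS, hR, hCc⟩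
    · exact ⟨a, haS, b, hbS, hPQ.symm, hCab⟩
  have hxab : ∀ u ∈ S, ∀ v ∈ S, C u ≠ C v → ∃ x : G, ⁅v, x⁆ = 1 ∧ ⁅u, x⁆ ≠ 1 := by
    intro u hu v hv huv
    by_contra h
    push Not at h
    apply huv
    refine (eq_of_le_of_card_ge (fun x hx => (hker u x).2 (h x ((hker v x).1 hx))) ?_).symm
    have h1 := (C u).card_mul_index
    rw [← (C v).card_mul_index, show (C u).index = p from (card_range_ad hcl u).symm.trans (hS u hu),
      show (C v).index = p from (card_range_ad hcl v).symm.trans (hS v hv)] at h1
    exact (Nat.eq_of_mul_eq_mul_right hp'.pos h1).le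
  have hnd : ∀ u ∈ S, ∀ i : ℕ, ¬ p ∣ i → (∀ x : G, ⁅u, x⁆ ^ i = 1 → ⁅u, x⁆ = 1) ∧
      (ad hcl (u ^ i)).range = (ad hcl u).range := by
    intro u hu i hi
    have hord : ∀ x : G, orderOf ⁅u, x⁆ ∣ p := fun x =>
      hS u hu ▸ Subgroup.orderOf_dvd_natCard _ (⟨x, rfl⟩ : ⁅u, x⁆ ∈ (ad hcl u).range)
    have h1 : ∀ x : G, ⁅u, x⁆ ^ i = 1 → ⁅u, x⁆ = 1 := fun x hx =>
      orderOf_eq_one_iff.1 (Nat.eq_one_of_dvd_coprimes (hp'.coprime_iff_not_dvd.2 hi) (hord x)
        (orderOf_dvd_of_pow_eq_one hx))
    refine ⟨h1, eq_of_le_of_card_ge ?_ ?_⟩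
    · rintro _ ⟨x, rfl⟩
      show ⁅u ^ i, x⁆ ∈ (ad hcl u).range
      rw [comm_pow_left hcl]
      exact pow_mem (⟨x, rfl⟩ : ⁅u, x⁆ ∈ (ad hcl u).range) i
    · rw [card_range_ad, card_range_ad]
      refine (le_of_eq ?_)
      congr 1
      ext x
      rw [← ad_ker hcl, ← ad_ker hcl, MonoidHom.mem_ker, MonoidHom.mem_ker]
      show ⁅u, x⁆ = 1 ↔ ⁅u ^ i, x⁆ = 1
      rw [comm_pow_left hcl]
      exact ⟨fun h => by rw [h, one_pow], h1 x⟩
  obtain ⟨x, hxb, hxa⟩ := hxab a haS b hbS hCab
  obtain ⟨y, hya, hyb⟩ := hxab b hbS a haS hCab.symm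
  have ha := hS a haS
  have hb := hS b hbS
  have hZ : ∀ z ∈ center G, ∀ w : G, ⁅z, w⁆ = 1 := fun z hz w =>
    commutatorElement_eq_one_iff_mul_comm.2 (mem_center_iff.1 hz w).symm
  have hcongr : ∀ u v : G, u⁻¹ * v ∈ center G → ∀ w, ⁅v, w⁆ = ⁅u, w⁆ := fun u v h w => by
    rw [show v = u * (u⁻¹ * v) by group, comm_mul_left hcl, hZ _ h w, mul_one]
  rcases hp'.eq_two_or_odd with h2 | hodd
  · subst h2
    -- a third generator
    obtain ⟨c, hcS, hc⟩ : ∃ c ∈ S, ¬ ∃ i j : ℕ, (a ^ i * b ^ j)⁻¹ * c ∈ center G := by
      by_contra h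
      push Not at h
      have hab1 : ⁅a, b⁆ = 1 := by
        by_contra hne1
        have h1 : ⁅a, b⁆ ∈ (ad hcl a).range := ⟨b, rfl⟩
        have h2 : ⁅a, b⁆ ∈ (ad hcl b).range := by
          rw [← commutatorElement_inv b a]
          exact inv_mem ⟨a, rfl⟩
        exact hPQ (le_antisymm (le_of_mem_of_ne_one hp' ha h1 hne1 h2)
          (le_of_mem_of_ne_one hp' hb h2 hne1 h1))
      have haa : a ∈ center G := by
        rw [← centralizer_eq_top_iff, eq_top_iff, ← hgen, closure_le]
        intro c hc
        obtain ⟨i, j, hij⟩ := h c hc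
        rw [SetLike.mem_coe, show centralizer ({a} : Set G) = C a from rfl, hker,
          ← commutatorElement_inv, inv_eq_one, hcongr _ _ hij a, comm_mul_left hcl,
          comm_pow_left hcl, comm_pow_left hcl, commutatorElement_self, one_pow, one_mul,
          ← commutatorElement_inv a b, hab1, inv_one, one_pow]
      have h1 := ha
      rw [card_range_ad, (centralizer_eq_top_iff a).2 haa, index_top] at h1
      exact hp'.ne_one h1.symm
    have hcc := hS c hcS
    have hb1 : ∀ u : G, (a * b)⁻¹ * u ∈ center G → ∀ w, ⁅u, w⁆ = ⁅a, w⁆ * ⁅b, w⁆ :=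
      fun u h w => by rw [hcongr _ _ h w, comm_mul_left hcl]
    -- a second big coset
    obtain ⟨u, hu, hbigu⟩ : ∃ u, (a * b)⁻¹ * u ∉ center G ∧
        2 ^ 2 ≤ (centralizer ({u} : Set G)).index := by
      have hn : ∀ i j : ℕ, (a ^ i * b ^ j)⁻¹ * c ∉ center G := fun i j h => hc ⟨i, j, h⟩
      have hn' : ∀ v : G, ∀ i j : ℕ, v = a ^ i * b ^ j → v⁻¹ * c ∉ center G :=
        fun v i j hv => hv ▸ hn i j
      by_cases hR : (ad hcl c).range = (ad hcl a).range
      · by_cases hC' : C c = C b
        · -- `abc`
          refine ⟨a * b * c, fun h => hn' 1 0 0 (by simp) (by simpa [mul_assoc] using h), ?_⟩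
          obtain ⟨w, hwa, hwb⟩ := hxab b hbS a haS hCab.symm
          have hwc : ⁅c, w⁆ ≠ 1 := fun h => hwb ((hker b w).1 (hC' ▸ (hker c w).2 h))
          have h1 : (ad hcl a).range ≤ (ad hcl (a * b * c)).range :=
            le_of_mem_of_ne_one hp' ha ⟨x, rfl⟩ hxa ⟨x, by
              show ⁅a * b * c, x⁆ = ⁅a, x⁆
              rw [comm_mul_left hcl, comm_mul_left hcl, hxb,
                (hker c x).1 (hC' ▸ (hker b x).2 hxb), mul_one, mul_one]⟩
          refine sq_le_index hcl hp' ha hb hPQ h1 (le_of_mem_of_ne_one hp' hb ⟨w, rfl⟩ hwb ?_)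
          have h2 : ⁅a * b * c, w⁆ ∈ (ad hcl (a * b * c)).range := ⟨w, rfl⟩
          rw [comm_mul_left hcl, comm_mul_left hcl, hwa, one_mul] at h2
          have h3 : ⁅c, w⁆ ∈ (ad hcl (a * b * c)).range := h1 (hR ▸ ⟨w, rfl⟩)
          have h4 := mul_mem h2 (inv_mem h3)
          rwa [mul_inv_cancel_right] at h4
        · -- `cb`
          obtain ⟨w, hwb, hwc⟩ := hxab c hcS b hbS hC'
          refine ⟨c * b, fun h => ?_, sq_le_index_mul hcl hp' hcc hb (hR ▸ hPQ) hwb hwc⟩
          have h' : a⁻¹ * c ∈ center G := by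
            have e : a⁻¹ * c = b * ((a * b)⁻¹ * (c * b)) * b⁻¹ := by group
            rw [e, mem_center_iff.1 h b, mul_inv_cancel_right]
            exact h
          exact hn' a 1 0 (by simp) h'
      · by_cases hC' : C c = C a
        · have hCb : C c ≠ C b := hC' ▸ hCab
          by_cases hRb : (ad hcl c).range = (ad hcl b).range
          · -- `abc`
            refine ⟨a * b * c, fun h => hn' 1 0 0 (by simp) (by simpa [mul_assoc] using h), ?_⟩
            obtain ⟨w, hwb, hwa⟩ := hxab a haS b hbS hCab
            have h1 : (ad hcl b).range ≤ (ad hcl (a * b * c)).range :=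
              le_of_mem_of_ne_one hp' hb ⟨y, rfl⟩ hyb ⟨y, by
                show ⁅a * b * c, y⁆ = ⁅b, y⁆
                rw [comm_mul_left hcl, comm_mul_left hcl, hya,
                  (hker c y).1 (hC' ▸ (hker a y).2 hya), one_mul, mul_one]⟩
            refine sq_le_index hcl hp' ha hb hPQ (le_of_mem_of_ne_one hp' ha ⟨w, rfl⟩ hwa ?_) h1
            have h2 : ⁅a * b * c, w⁆ ∈ (ad hcl (a * b * c)).range := ⟨w, rfl⟩
            rw [comm_mul_left hcl, comm_mul_left hcl, hwb, mul_one] at h2
            have h3 : ⁅c, w⁆ ∈ (ad hcl (a * b * c)).range := h1 (hRb ▸ ⟨w, rfl⟩)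
            have h4 := mul_mem h2 (inv_mem h3)
            rwa [mul_inv_cancel_right] at h4
          · -- `cb`
            obtain ⟨w, hwb, hwc⟩ := hxab c hcS b hbS hCb
            refine ⟨c * b, fun h => ?_, sq_le_index_mul hcl hp' hcc hb hRb hwb hwc⟩
            have h' : a⁻¹ * c ∈ center G := by
              have e : a⁻¹ * c = b * ((a * b)⁻¹ * (c * b)) * b⁻¹ := by group
              rw [e, mem_center_iff.1 h b, mul_inv_cancel_right]
              exact h
            exact hn' a 1 0 (by simp) h'
        · -- `ac`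
          obtain ⟨w, hwc, hwa⟩ := hxab a haS c hcS fun h => hC' h.symm
          refine ⟨a * c, fun h => hn' b 0 1 (by simp) ?_,
            sq_le_index_mul hcl hp' ha hcc (Ne.symm hR) hwc hwa⟩
          simpa [mul_assoc] using h
    refine card_orbits_mul_le_of_cosets hp hp' ![a * b, u] ?_ ?_
    · intro i j h
      fin_cases i <;> fin_cases j <;> first | rfl | (exfalso; simp at h) | skip
      · exact hu (by simpa [mul_assoc] using h)
      · exact hu (by simpa [mul_assoc] using inv_mem h)
    · intro i
      fin_cases i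
      · exact sq_le_index_mul hcl hp' ha hb hPQ hxb hxa
      · exact hbigu
  · have hp3 : 3 ≤ p := by have := hp'.two_le; omega
    let ea : Fin p → ℕ := fun i => if (i : ℕ) = 0 then 1 else i
    let eb : Fin p → ℕ := fun i => if (i : ℕ) = 0 then 2 else 1
    have hea : ∀ i, ¬ p ∣ ea i := fun i => Nat.not_dvd_of_pos_of_lt
      (by simp only [ea]; split <;> omega) (by simp only [ea]; have := i.2; split <;> omega)
    have heb : ∀ i, ¬ p ∣ eb i := fun i => Nat.not_dvd_of_pos_of_lt
      (by simp only [eb]; split <;> omega) (by simp only [eb]; split <;> omega)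
    refine card_orbits_mul_le_of_cosets hp hp' (fun i => a ^ ea i * b ^ eb i) ?_ ?_
    · intro i j h
      have key : ∀ z, ⁅a, z⁆ ^ ea j * ⁅b, z⁆ ^ eb j = ⁅a, z⁆ ^ ea i * ⁅b, z⁆ ^ eb i := fun z => by
        have := hcongr _ _ h z
        simpa [comm_mul_left hcl, comm_pow_left hcl] using this
      have ordeq : ∀ (u : G) (_ : u ∈ S) (z : G) (_ : ⁅u, z⁆ ≠ 1) (m n : ℕ), m < p → n < p →
          ⁅u, z⁆ ^ m = ⁅u, z⁆ ^ n → m = n := fun u hu z hz m n hm hn he => by
        have hord : orderOf ⁅u, z⁆ = p := (hp'.eq_one_or_self_of_dvd _ (hS u hu ▸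
          Subgroup.orderOf_dvd_natCard _ (⟨z, rfl⟩ : ⁅u, z⁆ ∈ (ad hcl u).range))).resolve_left
            fun h => hz (orderOf_eq_one_iff.1 h)
        have := pow_eq_pow_iff_modEq.1 he
        rw [hord] at this
        exact Nat.ModEq.eq_of_lt_of_lt this hm hn
      have h1 := key x
      rw [hxb, one_pow, one_pow, mul_one, mul_one] at h1
      have h2 := key y
      rw [hya, one_pow, one_pow, one_mul, one_mul] at h2
      have hlt : ∀ i, ea i < p ∧ eb i < p := fun i => by
        have := i.2
        refine ⟨?_, ?_⟩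
        · simp only [ea]; split <;> omega
        · simp only [eb]; split <;> omega
      have e1 := ordeq a haS x hxa _ _ (hlt j).1 (hlt i).1 h1
      have e2 := ordeq b hbS y hyb _ _ (hlt j).2 (hlt i).2 h2
      apply Fin.ext
      simp only [ea, eb] at e1 e2
      have := i.2; have := j.2
      split_ifs at e1 e2 <;> omega
    · intro i
      have hA := hnd a haS _ (hea i)
      have hB := hnd b hbS _ (heb i)
      refine sq_le_index_mul hcl hp' (by rw [hA.2, ha]) (by rw [hB.2, hb])
        (by rw [hA.2, hB.2]; exact hPQ) (x := x) ?_ ?_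
      · rw [comm_pow_left hcl, hxb, one_pow]
      · rw [comm_pow_left hcl]
        exact fun h => hxa (hA.1 x h)

/-- Commutator subgroup of order `p`: automorphisms moving cosets. -/
theorem card_orbits_mul_le_of_card_commutator (hp : p = (Nat.card G).minFac) (hp' : p.Prime)
    (hcl : commutator G ≤ center G) {c : G} (hc1 : c ≠ 1) (hcp : orderOf c = p)
    (hcZ : ∀ g x : G, ⁅g, x⁆ ∈ zpowers c) (hna : ∃ g, g ∉ center G) :
    Nat.card (MulAction.orbitRel.Quotient (MulAut G) G) * p ≤ Nat.card G := by
  classical
  set Z := center G with hZdef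
  have hcomm : ∀ g h : G, g ∈ Z → h * g = g * h := fun g h hg => mem_center_iff.1 hg h
  have hrange : ∀ g : G, g ∉ Z → ∀ i : ℕ, ∃ x : G, ⁅g, x⁆ = c ^ i := by
    intro g hg i
    have hne : ∃ x : G, ⁅g, x⁆ ≠ 1 := by
      by_contra h
      push Not at h
      exact hg (mem_center_iff.2 fun x => (commutatorElement_eq_one_iff_mul_comm.1 (h x)).symm)
    obtain ⟨x, hx⟩ := hne
    have hle : zpowers c ≤ (ad hcl g).range :=
      le_of_mem_of_ne_one hp' (by rw [Nat.card_zpowers, hcp]) (hcZ g x) hx ⟨x, rfl⟩
    exact hle (pow_mem (mem_zpowers c) i)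
  have hcC : c ∈ Z := by
    obtain ⟨g, hg⟩ := hna
    obtain ⟨x, hx⟩ := hrange g hg 1
    rw [pow_one] at hx
    exact hx ▸ hcl (commutator_mem_commutator (mem_top g) (mem_top x))
  -- class of `g` is `g⟨c⟩`
  have hconj : ∀ g : G, g ∉ Z → ∀ i : ℕ, g * c ^ i ∈ MulAction.orbit (MulAut G) g := by
    intro g hg i
    obtain ⟨x, hx⟩ := hrange g hg i
    refine ⟨MulAut.conj x⁻¹, ?_⟩
    show x⁻¹ * g * x⁻¹⁻¹ = g * c ^ i
    rw [← hx]
    have h : ⁅g⁻¹, x⁻¹⁆ = ⁅g, x⁆ := by
      have h1 : ∀ u w : G, ⁅u⁻¹, w⁆ = ⁅u, w⁆⁻¹ := fun u w => by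
        rw [eq_inv_iff_mul_eq_one, ← comm_mul_left hcl, inv_mul_cancel, commutatorElement_one_left]
      rw [h1, ← commutatorElement_inv x⁻¹ g, inv_inv, h1, ← commutatorElement_inv g x, inv_inv]
    rw [← h, commutatorElement_def]
    group
  have hindex : ∀ g : G, g ∉ Z → p ≤ Nat.card (MulAction.orbit (MulAut G) g) := fun g hg =>
    (minFac_le_index (fun h => hg ((centralizer_eq_top_iff g).1 h)) hp).trans
      (index_centralizer_le_orbit g)
  have h2le : p < p ^ 2 := by have := hp'.two_le; nlinarith
  -- `p² |Z| ≤ |G|`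
  have hm : Nat.card Z * p * p ≤ Nat.card G := by
    obtain ⟨g, hg⟩ := hna
    have hlt : Z < centralizer ({g} : Set G) :=
      lt_of_le_of_ne (center_le_centralizer _) fun h => hg (h ▸ mem_centralizer_singleton_iff.2 rfl)
    have h1 := minFac_le_index (p := p)
      (fun h => hg ((centralizer_eq_top_iff g).1 h) : centralizer ({g} : Set G) ≠ ⊤) hp
    have h2 : Nat.card Z * p ≤ Nat.card (centralizer ({g} : Set G)) := by
      have hne : (Z.subgroupOf (centralizer ({g} : Set G))) ≠ ⊤ := fun h =>
        hlt.not_ge (subgroupOf_eq_top.1 h)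
      have h3 := Nat.minFac_le_of_dvd (n := Nat.card G)
        (lt_of_le_of_ne (Nat.one_le_iff_ne_zero.2 (Subgroup.index_ne_zero_of_finite (H := Z.subgroupOf (centralizer ({g} : Set G)))))
          fun h => hne (index_eq_one.1 h.symm))
        ((index_dvd_card _).trans (card_subgroup_dvd_card _))
      rw [← card_mul_index (Z.subgroupOf (centralizer ({g} : Set G))),
        Nat.card_congr (subgroupOfEquivOfLe hlt.le).toEquiv, hp]
      exact Nat.mul_le_mul_left _ h3
    rw [← card_mul_index (centralizer ({g} : Set G))]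
    exact Nat.mul_le_mul h2 h1
  have hcount : ∀ B : Set G, Nat.card Z * p ≤ Nat.card B →
      Nat.card Z * (p - 1) * p ^ 2 ≤ Nat.card B * (p ^ 2 - p) := fun B hB => by
    rw [show p ^ 2 - p = p * (p - 1) by rw [pow_two, Nat.mul_sub_one],
      show Nat.card Z * (p - 1) * p ^ 2 = Nat.card Z * p * (p * (p - 1)) by ring]
    exact Nat.mul_le_mul_right _ hB
  have horb2 : ∀ (g d : G) (B : ℕ → G), g ∉ Z →
      (∀ i, B i ∈ MulAction.orbit (MulAut G) g) → (∀ i, B i ∉ Z) →
      (∀ i, i < p → ∀ j, j < p → (B i)⁻¹ * B j ∈ zpowers c → i = j) →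
      p ^ 2 ≤ Nat.card (MulAction.orbit (MulAut G) g) := by
    intro g _ B _ hBo hBn hBi
    let f : Fin p × Fin p → MulAction.orbit (MulAut G) g := fun q =>
      ⟨B q.1 * c ^ (q.2 : ℕ), MulAction.orbit_eq_iff.2 (hBo q.1) ▸ hconj _ (hBn q.1) _⟩
    have hf : Function.Injective f := by
      rintro ⟨i, j⟩ ⟨i', j'⟩ h
      have h' : B i * c ^ (j : ℕ) = B i' * c ^ (j' : ℕ) := congrArg Subtype.val h
      have hi : i = i' := Fin.ext (hBi i i.2 i' i'.2 (by
        have e : (B i)⁻¹ * B i' = c ^ (j : ℕ) * (c ^ (j' : ℕ))⁻¹ := by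
          rw [show B i' = B i * c ^ (j : ℕ) * (c ^ (j' : ℕ))⁻¹ by rw [h']; group]; group
        rw [e]
        exact mul_mem (pow_mem (mem_zpowers c) _) (inv_mem (pow_mem (mem_zpowers c) _))))
      subst hi
      have hj := pow_eq_pow_iff_modEq.1 (mul_left_cancel h')
      rw [hcp] at hj
      exact Prod.ext rfl (Fin.ext (hj.eq_of_lt_of_lt j.2 j'.2))
    have := Nat.card_le_card_of_injective f hf
    rwa [Nat.card_prod, Nat.card_fin, ← pow_two] at this
  have hkey : ∀ g x : G, ∃ k : ℕ, ⁅g, x⁆ = c ^ k := fun g x => by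
    obtain ⟨k, hk⟩ := mem_powers_iff_mem_zpowers.2 (hcZ g x)
    exact ⟨k, hk.symm⟩
  choose kk hkk using hkey
  have hkmod : ∀ g x : G, ∀ n : ℕ, ⁅g, x⁆ = c ^ n → kk g x ≡ n [MOD p] := fun g x n h => by
    have := pow_eq_pow_iff_modEq.1 ((hkk g x).symm.trans h)
    rwa [hcp] at this
  by_cases hzc : ∃ z ∈ Z, z ^ p = 1 ∧ z ∉ zpowers c
  · -- central automorphisms
    obtain ⟨z, hzZ, hzp, hzc⟩ := hzc
    have hzper : ∀ m n : ℕ, m ≡ n [MOD p] → z ^ m = z ^ n := fun m n h =>
      pow_eq_pow_iff_modEq.2 (h.of_dvd (orderOf_dvd_of_pow_eq_one hzp))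
    refine card_orbits_mul_le_of_weights p (p ^ 2) (Z : Set G) (Z : Set G)ᶜ h2le hp'.pos
      disjoint_compl_right ?_ hindex (hcount _ ?_)
    · intro g hg
      obtain ⟨x, hx⟩ := hrange g hg 1
      let η : G → G := fun y => z ^ kk y x
      have hη : ∀ u v, η (u * v) = η u * η v := fun u v => by
        show z ^ kk (u * v) x = z ^ kk u x * z ^ kk v x
        rw [← pow_add]
        exact hzper _ _ (hkmod _ _ _ (by rw [pow_add, comm_mul_left hcl, hkk u x, hkk v x]))
      have hηz : ∀ w ∈ Z, η w = 1 := fun w hw => by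
        show z ^ kk w x = 1
        rw [← pow_zero z]
        exact hzper _ _ (hkmod _ _ _ (by
          rw [pow_zero]; exact commutatorElement_eq_one_iff_mul_comm.2 (hcomm _ _ hw).symm))
      have hηZ : ∀ w, η w ∈ Z := fun w => pow_mem hzZ _
      let σ : G →* G :=
        { toFun := fun y => y * η y
          map_one' := by rw [hηz 1 Z.one_mem, mul_one]
          map_mul' := fun u v => by
            rw [hη]
            calc u * v * (η u * η v) = u * (v * η u) * η v := by group
              _ = u * (η u * v) * η v := by rw [hcomm _ v (hηZ u)]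
              _ = u * η u * (v * η v) := by group }
      have hσ : Function.Injective σ := by
        rw [injective_iff_map_eq_one]
        intro y hy
        have hy' : y * η y = 1 := hy
        have hyZ : y ∈ Z := by
          rw [eq_inv_of_mul_eq_one_left hy']
          exact Z.inv_mem (hηZ y)
        rwa [hηz y hyZ, mul_one] at hy'
      let e : MulAut G := MulEquiv.ofBijective σ ⟨hσ, Finite.surjective_of_injective hσ⟩
      have hgz : η g = z := by
        conv_rhs => rw [← pow_one z]
        exact hzper _ _ (hkmod _ _ _ hx)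
      refine horb2 g 1 (fun i => g * z ^ i) hg ?_ (fun i h => hg (by
        simpa using Z.mul_mem h (Z.inv_mem (pow_mem hzZ i)))) ?_
      · intro i
        induction i with
        | zero => simp [MulAction.mem_orbit_self]
        | succ i ih =>
          rw [← MulAction.orbit_eq_iff.2 ih]
          refine ⟨e, ?_⟩
          show g * z ^ i * η (g * z ^ i) = g * z ^ (i + 1)
          rw [hη, hηz _ (pow_mem hzZ i), mul_one, hgz, pow_succ, mul_assoc]
      · intro i hi j hj h
        have hzord : orderOf z = p := (hp'.eq_one_or_self_of_dvd _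
          (orderOf_dvd_of_pow_eq_one hzp)).resolve_left fun h1 => hzc (by
            rw [orderOf_eq_one_iff.1 h1]; exact one_mem _)
        rcases Nat.lt_trichotomy i j with hlt | heq | hlt
        · exfalso
          apply hzc
          have h' : z ^ (j - i) ∈ zpowers c := by
            have e : (g * z ^ i)⁻¹ * (g * z ^ j) = z ^ (j - i) := by
              rw [pow_sub _ hlt.le, mul_inv_rev]
              have := (Commute.pow_pow_self z j i).inv_right.eq
              calc (z ^ i)⁻¹ * g⁻¹ * (g * z ^ j) = (z ^ i)⁻¹ * z ^ j := by group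
                _ = _ := this.symm
            rw [← e]; exact h
          obtain ⟨m, hm⟩ := exists_pow_eq_self_of_coprime (x := z) (n := j - i) (by
            rw [hzord]
            exact (hp'.coprime_iff_not_dvd.2 (Nat.not_dvd_of_pos_of_lt (by omega) (by omega))).symm)
          exact hm ▸ pow_mem h' m
        · exact heq
        · exfalso
          apply hzc
          have h' : z ^ (i - j) ∈ zpowers c := by
            have e : ((g * z ^ i)⁻¹ * (g * z ^ j))⁻¹ = z ^ (i - j) := by
              rw [pow_sub _ hlt.le, mul_inv_rev, inv_inv, mul_inv_rev]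
              have := (Commute.pow_pow_self z i j).inv_right.eq
              calc (z ^ j)⁻¹ * g⁻¹ * (g * z ^ i) = (z ^ j)⁻¹ * z ^ i := by group
                _ = _ := this.symm
            rw [← e]; exact inv_mem h
          obtain ⟨m, hm⟩ := exists_pow_eq_self_of_coprime (x := z) (n := i - j) (by
            rw [hzord]
            exact (hp'.coprime_iff_not_dvd.2 (Nat.not_dvd_of_pos_of_lt (by omega) (by omega))).symm)
          exact hm ▸ pow_mem h' m
    · have h2 := Set.ncard_add_ncard_compl (Z : Set G)
      rw [← Nat.card_coe_set_eq, ← Nat.card_coe_set_eq] at h2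
      have h3 : Nat.card (Z : Set G) = Nat.card Z := rfl
      have hp2 := hp'.two_le
      rw [h3] at h2
      nlinarith
  · push Not at hzc
    -- every central element of order `p` lies in `⟨c⟩`
    have hcpow : c ^ p = 1 := hcp ▸ pow_orderOf_eq_one c
    have hZp : ∀ g : G, g ^ p ∈ Z := fun g => mem_center_iff.2 fun x => by
      refine (commutatorElement_eq_one_iff_mul_comm.1 ?_).symm
      rw [comm_pow_left hcl, hkk g x, ← pow_mul, mul_comm, pow_mul, hcpow, one_pow]
    have hinv : ∀ g h : G, ⁅g, h⁆ ^ p = 1 := fun g h => by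
      rw [hkk g h, ← pow_mul, mul_comm, pow_mul, hcpow, one_pow]
    obtain ⟨b, hbZ, hbp⟩ : ∃ b, b ∉ Z ∧ b ^ p = c ^ (p.choose 2) := by
      rcases hp'.eq_two_or_odd with h2 | hodd
      · subst h2
        simp only [Nat.choose_self, pow_one]
        obtain ⟨g, hg⟩ : ∃ g : G, g ∉ Z := by
          by_contra h
          push Not at h
          have : Z = ⊤ := eq_top_iff.2 fun g _ => h g
          rw [this, card_top] at hm
          have := Nat.card_pos (α := G)
          omega
        obtain ⟨x, hx⟩ := hrange g hg 1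
        rw [pow_one] at hx
        let sq : Z →* Z :=
          { toFun := fun w => w ^ 2
            map_one' := one_pow _
            map_mul' := fun u v => (show Commute u v from
              Subtype.ext (hcomm _ _ v.2)).mul_pow 2 }
        have hker : Nat.card sq.ker ≤ 2 := by
          have hle : sq.ker.map Z.subtype ≤ zpowers c := by
            rintro _ ⟨w, hw, rfl⟩
            exact hzc _ w.2 (congrArg Subtype.val hw)
          have := card_le_of_le hle
          rwa [card_map_of_injective Z.subtype_injective, Nat.card_zpowers, hcp] at this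
        have hidx : sq.range.index ≤ 2 := by
          have h1 := sq.range.card_mul_index
          rw [← index_ker] at h1
          have h2 := sq.ker.card_mul_index
          have h3 : sq.range.index = Nat.card sq.ker :=
            Nat.eq_of_mul_eq_mul_left (Nat.pos_of_ne_zero sq.ker.index_ne_zero_of_finite)
              (by rw [h1, mul_comm, h2])
          omega
        have hpair : ∀ u v : Z, u ∉ sq.range → v ∉ sq.range → u * v ∈ sq.range := fun u v hu hv => by
          have hi : sq.range.index = 2 := by
            have h0 : sq.range.index ≠ 0 := index_ne_zero_of_finite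
            have h1 : sq.range.index ≠ 1 := fun h => hu (index_eq_one.1 h ▸ mem_top u)
            omega
          exact (mul_mem_iff_of_index_two hi).2 (iff_of_false hu hv)
        set cz : Z := ⟨c, hcC⟩
        set gz : Z := ⟨g ^ 2, hZp g⟩
        set xz : Z := ⟨x ^ 2, hZp x⟩
        set gx : Z := ⟨(g * x) ^ 2, hZp (g * x)⟩
        have hgx : gx = gz * xz * cz := Subtype.ext (by
          show (g * x) ^ 2 = g ^ 2 * x ^ 2 * c
          have hinv' : ⁅g, x⁆⁻¹ = c := by
            rw [hx]
            exact inv_eq_of_mul_eq_one_right (by rw [← pow_two]; exact hcpow)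
          calc (g * x) ^ 2 = g * (x * g * (g * x)⁻¹) * (g * x) * x := by rw [pow_two]; group
            _ = g * (⁅g, x⁆⁻¹ * (g * x)) * x := by rw [commutatorElement_def]; group
            _ = g * (c * (g * x)) * x := by rw [hinv']
            _ = g * g * (c * x) * x := by rw [← mul_assoc c g x, ← hcomm _ g hcC]; group
            _ = g * g * (x * c) * x := by rw [hcomm _ x hcC]
            _ = g ^ 2 * x * (c * x) := by rw [pow_two]; group
            _ = g ^ 2 * x * (x * c) := by rw [hcomm _ x hcC]
            _ = g ^ 2 * x ^ 2 * c := by rw [pow_two x]; group)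
        have hnc : ∀ (w : G) (t : Z), w ∉ Z → (⟨w ^ 2, hZp w⟩ : Z) = cz * t ^ 2 →
            ∃ b, b ∉ Z ∧ b ^ 2 = c := fun w t hw he => by
          refine ⟨w * (t : G)⁻¹, fun h => hw (by simpa using Z.mul_mem h t.2), ?_⟩
          have he' : w ^ 2 = c * (t : G) ^ 2 := congrArg Subtype.val he
          rw [(show Commute w (t : G)⁻¹ from hcomm _ w (Z.inv_mem t.2)).mul_pow, he', inv_pow,
            mul_inv_cancel_right]
        have hwx : x ∉ Z ∧ g * x ∉ Z := by
          refine ⟨fun h => hc1 ?_, fun h => hc1 ?_⟩
          · rw [← hx]; exact commutatorElement_eq_one_iff_mul_comm.2 (hcomm _ g h)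
          · have h1 : ⁅g, g * x⁆ = ⁅g, g⁆ * ⁅g, x⁆ := (ad hcl g).map_mul g x
            rw [commutatorElement_self, one_mul, hx] at h1
            rw [← h1]; exact commutatorElement_eq_one_iff_mul_comm.2 (hcomm _ g h)
        have hcc : cz * cz = 1 := Subtype.ext (by
          show c * c = 1
          rw [← pow_two]; exact hcpow)
        have conv : ∀ w : Z, cz * w ∈ sq.range → ∃ t : Z, w = cz * t ^ 2 := fun w ⟨t, ht⟩ =>
          ⟨t, by
            calc w = cz * cz * w := by rw [hcc, one_mul]
              _ = cz * (cz * w) := mul_assoc _ _ _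
              _ = cz * t ^ 2 := by rw [← ht]; rfl⟩
        by_cases h1 : cz * gz ∈ sq.range
        · obtain ⟨t, ht⟩ := conv _ h1; exact hnc g t hg ht
        by_cases h2 : cz * xz ∈ sq.range
        · obtain ⟨t, ht⟩ := conv _ h2; exact hnc x t hwx.1 ht
        have h3 : cz * gx ∈ sq.range := by
          have h := hpair _ _ h1 h2
          have hZcomm : ∀ u v : Z, u * v = v * u := fun u v => Subtype.ext (hcomm _ _ v.2)
          have e : cz * gz * (cz * xz) = cz * gx := by
            rw [hgx, hZcomm cz (gz * xz * cz), mul_assoc (gz * xz) cz cz, hcc, mul_one,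
              hZcomm cz gz, mul_assoc gz cz, ← mul_assoc cz cz xz, hcc, one_mul]
          rwa [e] at h
        obtain ⟨t, ht⟩ := conv _ h3
        exact hnc _ t hwx.2 ht
      · have hch : c ^ (p.choose 2) = 1 := by
          apply orderOf_dvd_iff_pow_eq_one.1
          rw [hcp]
          exact Nat.Prime.dvd_choose_self hp' two_ne_zero (by have := hp'.two_le; omega)
        rw [hch]
        by_contra hno
        push Not at hno
        let pw : G →* Z :=
          { toFun := fun g => ⟨g ^ p, hZp g⟩
            map_one' := Subtype.ext (one_pow _)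
            map_mul' := fun u v => Subtype.ext (by
              show (u * v) ^ p = u ^ p * v ^ p
              have hcuv : ∀ n : ℕ, (u * v) ^ n = u ^ n * v ^ n * ⁅v, u⁆ ^ (n.choose 2) := by
                intro n
                induction n with
                | zero => simp
                | succ n ih =>
                  have hw : ∀ w : G, w * ⁅v, u⁆ ^ (n.choose 2) = ⁅v, u⁆ ^ (n.choose 2) * w :=
                    fun w => hcomm _ w (pow_mem (hcl (commutator_mem_commutator (mem_top v) (mem_top u))) _)
                  have hvu : v ^ n * u = u * v ^ n * ⁅v, u⁆ ^ n := by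
                    rw [← comm_pow_left hcl, hcomm _ (u * v ^ n)
                      (hcl (commutator_mem_commutator (mem_top (v ^ n)) (mem_top u))), commutatorElement_def]
                    group
                  have hw2 : v * ⁅v, u⁆ ^ n = ⁅v, u⁆ ^ n * v :=
                    hcomm _ v (pow_mem (hcl (commutator_mem_commutator (mem_top v) (mem_top u))) _)
                  rw [Nat.choose_succ_succ', Nat.choose_one_right, pow_succ, ih]
                  calc u ^ n * v ^ n * ⁅v, u⁆ ^ (n.choose 2) * (u * v)
                      = u ^ n * v ^ n * (⁅v, u⁆ ^ (n.choose 2) * (u * v)) := by group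
                    _ = u ^ n * (v ^ n * u) * v * ⁅v, u⁆ ^ (n.choose 2) := by
                        rw [← hw]; group
                    _ = u ^ n * (u * v ^ n) * (⁅v, u⁆ ^ n * v) * ⁅v, u⁆ ^ (n.choose 2) := by
                        rw [hvu]; group
                    _ = u ^ (n + 1) * v ^ (n + 1) * ⁅v, u⁆ ^ (n + n.choose 2) := by
                        rw [← hw2, pow_succ, pow_succ, pow_add]; group
              rw [hcuv p]
              obtain ⟨m, hm⟩ := Nat.Prime.dvd_choose_self hp' two_ne_zero (by have := hp'.two_le; omega)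
              rw [hm, pow_mul, hinv v u, one_pow, mul_one]) }
        have hker : pw.ker ≤ zpowers c := fun w hw => by
          have hw' : w ^ p = 1 := congrArg Subtype.val hw
          exact hzc w (by_contra fun h => hno w h hw') hw'
        have h1 := pw.ker.card_mul_index
        have h2 : pw.ker.index ≤ Nat.card Z := by
          rw [index_ker]; exact card_le_card_group _
        have h3 : Nat.card pw.ker ≤ p := (card_le_of_le hker).trans_eq (by rw [Nat.card_zpowers, hcp])
        have h4 : Nat.card G ≤ p * Nat.card Z := h1 ▸ Nat.mul_le_mul h3 h2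
        have := hp'.two_le
        have := Nat.card_pos (α := Z)
        nlinarith
    -- the automorphism `x ↦ x b^k c^(-(k choose 2))`
    let φ : ℕ → G := fun k => b ^ k * (c ^ (k.choose 2))⁻¹
    have hch2 : ∀ m n : ℕ, (m + n).choose 2 = m.choose 2 + n.choose 2 + m * n := by
      intro m n
      induction n with
      | zero => simp
      | succ n ih =>
        rw [← add_assoc, Nat.choose_succ_succ', Nat.choose_one_right, ih,
          Nat.choose_succ_succ', Nat.choose_one_right]
        ring
    have hzz : ∀ i, (c ^ i)⁻¹ ∈ Z := fun i => Z.inv_mem (pow_mem hcC i)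
    have hφp : ∀ k, φ (k + p) = φ k := fun k => by
      show b ^ (k + p) * (c ^ ((k + p).choose 2))⁻¹ = b ^ k * (c ^ (k.choose 2))⁻¹
      rw [hch2, pow_add b, hbp, pow_add c, pow_add c, mul_comm k p, pow_mul, hcpow, one_pow, mul_one]
      group
    have hφper : ∀ k l, k ≡ l [MOD p] → φ k = φ l := by
      have h : ∀ k i, φ (k + p * i) = φ k := by
        intro k i
        induction i with
        | zero => rfl
        | succ i ih => rw [Nat.mul_succ, ← add_assoc, hφp, ih]
      have h' : ∀ k, φ k = φ (k % p) := fun k => by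
        conv_lhs => rw [← Nat.mod_add_div k p]
        exact h _ _
      intro k l hkl
      rw [h' k, h' l, hkl]
    let τ : G →* G :=
      { toFun := fun x => x * φ (kk x b)
        map_one' := by
          rw [hφper _ 0 (hkmod _ _ _ (by rw [commutatorElement_one_left, pow_zero]))]
          simp [φ]
        map_mul' := fun x y => by
          have e : φ (kk (x * y) b) = φ (kk x b + kk y b) :=
            hφper _ _ (hkmod _ _ _ (by rw [pow_add, comm_mul_left hcl, hkk x b, hkk y b]))
          rw [e]
          show x * y * φ (kk x b + kk y b) = x * φ (kk x b) * (y * φ (kk y b))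
          have hby : b ^ kk x b * y = y * b ^ kk x b * (c ^ (kk x b * kk y b))⁻¹ := by
            have h1 : ⁅b ^ kk x b, y⁆ = (c ^ (kk x b * kk y b))⁻¹ := by
              rw [comm_pow_left hcl, ← commutatorElement_inv y b, hkk y b, inv_pow, ← pow_mul,
                mul_comm]
            rw [hcomm _ (y * b ^ kk x b) (hzz _), ← h1, commutatorElement_def]
            group
          show x * y * (b ^ (kk x b + kk y b) * (c ^ ((kk x b + kk y b).choose 2))⁻¹) =
            x * (b ^ kk x b * (c ^ ((kk x b).choose 2))⁻¹) *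
              (y * (b ^ kk y b * (c ^ ((kk y b).choose 2))⁻¹))
          calc x * y * (b ^ (kk x b + kk y b) * (c ^ ((kk x b + kk y b).choose 2))⁻¹)
              = x * y * b ^ kk x b * (b ^ kk y b * (c ^ (kk x b * kk y b))⁻¹) *
                  (c ^ ((kk x b).choose 2))⁻¹ * (c ^ ((kk y b).choose 2))⁻¹ := by
                rw [hch2, pow_add b, pow_add c, pow_add c]; group
            _ = x * (y * b ^ kk x b * (c ^ (kk x b * kk y b))⁻¹) * (b ^ kk y b *
                  (c ^ ((kk x b).choose 2))⁻¹) * (c ^ ((kk y b).choose 2))⁻¹ := by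
                rw [hcomm _ (b ^ kk y b) (hzz _)]; group
            _ = x * b ^ kk x b * (y * b ^ kk y b * (c ^ ((kk x b).choose 2))⁻¹) *
                  (c ^ ((kk y b).choose 2))⁻¹ := by
                rw [← hby]; group
            _ = x * (b ^ kk x b * (c ^ ((kk x b).choose 2))⁻¹) *
                  (y * (b ^ kk y b * (c ^ ((kk y b).choose 2))⁻¹)) := by
                rw [hcomm _ (y * b ^ kk y b) (hzz _)]; group }
    have hkb : ∀ w : G, ⁅w, b⁆ = 1 → τ w = w := fun w hw => by
      show w * φ (kk w b) = w
      rw [hφper _ 0 (hkmod _ _ _ (by rw [hw, pow_zero]))]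
      simp [φ]
    have hφb : ∀ k, ⁅φ k, b⁆ = 1 := fun k => by
      refine commutatorElement_eq_one_iff_mul_comm.2 ?_
      show b ^ k * (c ^ (k.choose 2))⁻¹ * b = b * (b ^ k * (c ^ (k.choose 2))⁻¹)
      rw [mul_assoc, ← hcomm _ b (hzz _), ← mul_assoc, ← mul_assoc, pow_mul_comm']
    have hτ : Function.Injective τ := by
      rw [injective_iff_map_eq_one]
      intro x hx
      have hx' : x * φ (kk x b) = 1 := hx
      have hxb : ⁅x, b⁆ = 1 := by
        have h := congrArg (fun w => ⁅w, b⁆) hx'
        simpa [comm_mul_left hcl, hφb] using h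
      rwa [hkb x hxb] at hx
    let e : MulAut G := MulEquiv.ofBijective τ ⟨hτ, Finite.surjective_of_injective hτ⟩
    have hdisj : Disjoint (Z : Set G) ((centralizer ({b} : Set G) : Set G)ᶜ) :=
      Set.disjoint_left.2 fun w hw hw' => hw' (center_le_centralizer _ hw)
    refine card_orbits_mul_le_of_weights p (p ^ 2) (Z : Set G)
      ((centralizer ({b} : Set G) : Set G)ᶜ) h2le hp'.pos hdisj ?_ hindex (hcount _ ?_)
    · intro g hg
      have hgZ : g ∉ Z := fun h => hg (center_le_centralizer _ h)
      set k := kk g b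
      have hk : ¬ p ∣ k := fun hd => hg (mem_centralizer_singleton_iff.2
        (commutatorElement_eq_one_iff_mul_comm.1 (by
          rw [hkk g b]
          obtain ⟨m, hm⟩ := hd
          show c ^ k = 1
          rw [hm, pow_mul, hcpow, one_pow])))
      refine horb2 g 1 (fun i => g * φ k ^ i) hgZ ?_ ?_ ?_
      · intro i
        induction i with
        | zero => simp [MulAction.mem_orbit_self]
        | succ i ih =>
          rw [← MulAction.orbit_eq_iff.2 ih]
          refine ⟨e, ?_⟩
          show τ (g * φ k ^ i) = g * φ k ^ (i + 1)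
          rw [map_mul, map_pow, hkb _ (hφb k), show τ g = g * φ k from rfl, pow_succ',
            mul_assoc]
      · intro i h
        apply hg
        have hb2 : ⁅g * φ k ^ i, b⁆ = 1 :=
          commutatorElement_eq_one_iff_mul_comm.2 (hcomm _ b h).symm
        rw [comm_mul_left hcl, comm_pow_left hcl, hφb, one_pow, mul_one] at hb2
        exact mem_centralizer_singleton_iff.2 (commutatorElement_eq_one_iff_mul_comm.1 hb2)
      · intro i hi j hj h
        have h1 : (φ k ^ i)⁻¹ * φ k ^ j ∈ zpowers c := by
          have e2 : (g * φ k ^ i)⁻¹ * (g * φ k ^ j) = (φ k ^ i)⁻¹ * φ k ^ j := by group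
          rw [← e2]; exact h
        by_contra hne
        apply hbZ
        have hmem : ∃ d : ℕ, ¬ p ∣ d ∧ φ k ^ d ∈ Z := by
          have hle : zpowers c ≤ Z := zpowers_le.2 hcC
          rcases Nat.lt_or_gt_of_ne hne with hlt | hlt
          · refine ⟨j - i, Nat.not_dvd_of_pos_of_lt (by omega) (by omega), hle ?_⟩
            rw [pow_sub _ hlt.le, (Commute.pow_pow_self (φ k) j i).inv_right.eq]
            exact h1
          · refine ⟨i - j, Nat.not_dvd_of_pos_of_lt (by omega) (by omega), hle ?_⟩
            rw [pow_sub _ hlt.le, (Commute.pow_pow_self (φ k) i j).inv_right.eq]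
            simpa using inv_mem h1
        obtain ⟨d, hd, hdm⟩ := hmem
        have h2 : b ^ (k * d) ∈ Z := by
          have e3 : φ k ^ d = b ^ (k * d) * ((c ^ (k.choose 2))⁻¹) ^ d := by
            rw [(show Commute (b ^ k) (c ^ (k.choose 2))⁻¹ from hcomm _ _ (hzz _)).mul_pow,
              pow_mul]
          rw [e3] at hdm
          simpa using Z.mul_mem hdm (Z.inv_mem (pow_mem (hzz (k.choose 2)) d))
        have hcop : Nat.gcd (k * d) p = 1 := Nat.coprime_comm.1
          (hp'.coprime_iff_not_dvd.2 fun h => (hp'.dvd_mul.1 h).elim hk hd)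
        have hb3 := Nat.gcd_eq_gcd_ab (k * d) p
        rw [hcop] at hb3
        have e4 : b = (b ^ (k * d)) ^ Nat.gcdA (k * d) p * (b ^ p) ^ Nat.gcdB (k * d) p := by
          rw [← zpow_natCast b (k * d), ← zpow_natCast b p, ← zpow_mul, ← zpow_mul, ← zpow_add,
            ← hb3]
          simp
        rw [e4]
        exact Z.mul_mem (Z.zpow_mem h2 _) (Z.zpow_mem (hZp b) _)
    · have hne : centralizer ({b} : Set G) ≠ ⊤ := fun h => hbZ ((centralizer_eq_top_iff b).1 h)
      have h1 := minFac_le_index hne hp
      have h2 := (centralizer ({b} : Set G)).card_mul_index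
      have h3 := Set.ncard_add_ncard_compl ((centralizer ({b} : Set G) : Set G))
      rw [← Nat.card_coe_set_eq, ← Nat.card_coe_set_eq] at h3
      change Nat.card (centralizer ({b} : Set G)) + _ = _ at h3
      have hp2 := hp'.two_le
      have h4 : Nat.card (centralizer ({b} : Set G)) * p ≤ Nat.card G := h2 ▸ Nat.mul_le_mul_left _ h1
      nlinarith

/-- For the least prime `p` of a non-abelian group, `Aut G` has at most `|G|/p` orbits. -/
theorem card_orbits_mul_le (hna : ¬ IsMulCommutative G) :
    Nat.card (MulAction.orbitRel.Quotient (MulAut G) G) * (Nat.card G).minFac ≤ Nat.card G := by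
  have hnt : Nat.card G ≠ 1 := fun h => hna ⟨⟨fun a b => by
    haveI := (Nat.card_eq_one_iff_unique.1 h).1
    exact Subsingleton.elim _ _⟩⟩
  set p := (Nat.card G).minFac with hp
  have hp' : p.Prime := prime_minFac hnt hp
  by_cases hT : closure {g : G | (centralizer ({g} : Set G)).index ≤ p} = ⊤
  swap
  · exact card_orbits_mul_le_of_big hp hp' hT
  set S := {g : G | (centralizer ({g} : Set G)).index = p} with hSdef
  have hsmall : ∀ g, (centralizer ({g} : Set G)).index ≤ p → g ∈ center G ∨ g ∈ S := fun g hg => by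
    by_cases h : g ∈ center G
    · exact Or.inl h
    · exact Or.inr (le_antisymm hg
        (minFac_le_index (fun h1 => h ((centralizer_eq_top_iff g).1 h1)) hp))
  have hcl : commutator G ≤ center G := by
    intro x hx
    rw [← centralizer_eq_top_iff, eq_top_iff, ← hT, closure_le]
    intro g hg
    rw [SetLike.mem_coe, mem_centralizer_singleton_iff]
    rcases hsmall g hg with h | h
    · exact (mem_center_iff.1 h x).symm
    · haveI : (centralizer ({g} : Set G)).Normal := normal_of_index_eq_minFac_card (h.trans hp)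
      have hle : commutator G ≤ centralizer ({g} : Set G) := by
        haveI := Fact.mk hp'
        haveI : IsCyclic (G ⧸ centralizer ({g} : Set G)) := isCyclic_of_prime_card h
        let _ : CommGroup (G ⧸ centralizer ({g} : Set G)) := IsCyclic.commGroup
        exact Normal.quotient_commutative_iff_commutator_le.1 inferInstance
      exact (mem_centralizer_singleton_iff.1 (hle hx)).symm
  have hgenS : closure (S ∪ (center G : Set G)) = ⊤ := by
    rw [eq_top_iff, ← hT]
    exact closure_mono fun g hg => (hsmall g hg).symm.imp id id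
  obtain ⟨g₀, hg₀⟩ : S.Nonempty := by
    by_contra h
    rw [Set.not_nonempty_iff_eq_empty] at h
    rw [h, Set.empty_union, closure_eq] at hgenS
    exact hna ⟨⟨fun a b => mem_center_iff.1 (hgenS ▸ mem_top b) a⟩⟩
  have hS : ∀ g ∈ S, Nat.card (ad hcl g).range = p := fun g hg => (card_range_ad hcl g).trans hg
  by_cases hP : ∃ P : Subgroup G, Nat.card P = p ∧ ∀ g ∈ S, (ad hcl g).range = P
  · obtain ⟨P, hPc, hP⟩ := hP
    have hall : ∀ g x : G, ⁅g, x⁆ ∈ P := by
      intro g x
      have hg : g ∈ closure (S ∪ (center G : Set G)) := hgenS ▸ mem_top g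
      induction hg using closure_induction with
      | mem y hy =>
        rcases hy with hy | hy
        · exact hP y hy ▸ ⟨x, rfl⟩
        · rw [commutatorElement_eq_one_iff_mul_comm.2 (mem_center_iff.1 hy x).symm]
          exact P.one_mem
      | one => simp [P.one_mem]
      | mul y z _ _ hy hz => rw [comm_mul_left hcl]; exact P.mul_mem hy hz
      | inv y _ hy =>
        have h1 : ⁅y⁻¹, x⁆ * ⁅y, x⁆ = 1 := by
          rw [← comm_mul_left hcl, inv_mul_cancel, commutatorElement_one_left]
        rw [eq_inv_of_mul_eq_one_left h1]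
        exact P.inv_mem hy
    haveI := Fact.mk hp'
    obtain ⟨c, hc⟩ := exists_prime_orderOf_dvd_card' (G := P) p hPc.symm.dvd
    rw [← orderOf_coe] at hc
    have hz : zpowers (c : G) = P :=
      eq_of_le_of_card_ge (zpowers_le.2 c.2) (by rw [hPc, Nat.card_zpowers, hc])
    exact card_orbits_mul_le_of_card_commutator hp hp' hcl
      (fun h => hp'.ne_one (by rw [← hc, h, orderOf_one])) hc (fun g x => by rw [hz]; exact hall g x)
      ⟨g₀, fun h => hp'.ne_one (by
        rw [← hg₀, (centralizer_eq_top_iff g₀).2 h, index_top])⟩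
  · -- replace the central generators by products with `g₀`
    refine card_orbits_mul_le_of_two_ranges hp hp' hcl (S := S) ?_ hS hP ⟨g₀, hg₀⟩
    rw [eq_top_iff, ← hgenS, closure_le]
    rintro g (hg | hg)
    · exact subset_closure hg
    · have h1 : g₀ * g ∈ S := by
        show (centralizer ({g₀ * g} : Set G)).index = p
        rw [← card_range_ad hcl]
        have : ad hcl (g₀ * g) = ad hcl g₀ := MonoidHom.ext fun x => by
          show ⁅g₀ * g, x⁆ = ⁅g₀, x⁆
          rw [comm_mul_left hcl, commutatorElement_eq_one_iff_mul_comm.2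
            (mem_center_iff.1 hg x).symm, mul_one]
        rw [this, hS g₀ hg₀]
      rw [SetLike.mem_coe, show g = g₀⁻¹ * (g₀ * g) by group]
      exact mul_mem (inv_mem (subset_closure hg₀)) (subset_closure h1)

end CfsgLib.AutOrbits
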